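import Mathlib
import Groth.Prelude.Def_W4c2conddiscmodels

/-!
# Multiplicity vectors along a Hirzebruch–Jung chain
-/

set_option autoImplicit false
noncomputable section

open Finset

namespace Groth.Agent.HJChain

/-- Numerator and denominator of a Hirzebruch–Jung fraction. -/
def nd : List ℤ → ℤ × ℤ
  | [] => (1, 0)
  | b :: l => (b * (nd l).1 - (nd l).2, (nd l).1)

theorem nd_spec (L : List ℤ) (h : ∀ b ∈ L, 2 ≤ b) :
    0 ≤ (nd L).2 ∧ (nd L).2 < (nd L).1 ∧ IsCoprime (nd L).1 (nd L).2 ∧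
      (L ≠ [] → 0 < (nd L).2 ∧ HJFrac.hjVal L = ((nd L).1 : ℚ) / (nd L).2) := by
  induction L with
  | nil => exact ⟨le_rfl, one_pos, isCoprime_one_left, fun h => absurd rfl h⟩
  | cons b l ih =>
    obtain ⟨h0, h1, hc, hv⟩ := ih fun x hx => h x (List.mem_cons_of_mem _ hx)
    have hb := h b List.mem_cons_self
    have hN : 0 < (nd l).1 := by omega
    refine ⟨hN.le, show (nd l).1 < b * (nd l).1 - (nd l).2 by nlinarith, ?_, fun _ => ⟨hN, ?_⟩⟩
    · show IsCoprime (b * (nd l).1 - (nd l).2) (nd l).1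
      obtain ⟨x, y, e⟩ := hc
      exact ⟨-y, x + b * y, by linear_combination e⟩
    · have hN' : ((nd l).1 : ℚ) ≠ 0 := Int.cast_ne_zero.2 hN.ne'
      show (b : ℚ) - (HJFrac.hjVal l)⁻¹ = ((b * (nd l).1 - (nd l).2 : ℤ) : ℚ) / ((nd l).1 : ℚ)
      rcases l with _ | ⟨c, l⟩
      · simp [HJFrac.hjVal, nd]
      · rw [(hv (List.cons_ne_nil _ _)).2, inv_div]
        push_cast; field_simp

variable (l : ℕ) (b μ : ℕ → ℤ) (hsys : ∀ i, 1 ≤ i → i ≤ l → b i * μ i = μ (i - 1) + μ (i + 1))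

/-- The tail `[b (i+1), …, b l]`. -/
def tail (i : ℕ) : List ℤ := (List.range' i (l - i)).map fun j => b (j + 1)

include hsys in
theorem chain (hne : ∀ i, i ≤ l + 1 → μ i ≠ 0) : ∀ k i, i + k = l →
    (nd (tail l b i)).1 * μ (i + 1) - (nd (tail l b i)).2 * μ i = μ (l + 1) ∧
    ∑ j ∈ Ico i (l + 1), 1 / ((μ j : ℚ) * (μ (j + 1) : ℚ)) = ((nd (tail l b i)).1 : ℚ) / ((μ i : ℚ) * (μ (l + 1) : ℚ)) := by
  intro k
  induction k with
  | zero =>
    intro i hi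
    obtain rfl : i = l := by omega
    simp [tail, nd]
  | succ k ih =>
    intro i hi
    obtain ⟨h1, h2⟩ := ih (i + 1) (by omega)
    have ht : tail l b i = b (i + 1) :: tail l b (i + 1) := by
      rw [tail, tail, show l - i = (l - (i + 1)) + 1 by omega, List.range'_succ]
      rfl
    have hs := hsys (i + 1) (by omega) (by omega)
    rw [Nat.add_sub_cancel] at hs
    set N := (nd (tail l b (i + 1))).1
    set D := (nd (tail l b (i + 1))).2
    have e1 : (nd (tail l b i)).1 = b (i + 1) * N - D := by rw [ht]; rfl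
    have e2 : (nd (tail l b i)).2 = N := by rw [ht]; rfl
    have key : (b (i + 1) * N - D) * μ (i + 1) - N * μ i = μ (l + 1) := by linear_combination h1 + N * hs
    refine ⟨by rw [e1, e2]; exact key, ?_⟩
    rw [sum_eq_sum_Ico_succ_bot (by omega), h2, e1]
    have a0 : (μ i : ℚ) ≠ 0 := Int.cast_ne_zero.2 (hne i (by omega))
    have a1 : (μ (i + 1) : ℚ) ≠ 0 := Int.cast_ne_zero.2 (hne (i + 1) (by omega))
    have a2 : (μ (l + 1) : ℚ) ≠ 0 := Int.cast_ne_zero.2 (hne (l + 1) le_rfl)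
    have key' : ((b (i + 1) : ℚ) * N - D) * μ (i + 1) - N * μ i = μ (l + 1) := by exact_mod_cast key
    field_simp
    push_cast
    linear_combination -key'

theorem num_den (hl : 1 ≤ l) (hb : ∀ i, 1 ≤ i → i ≤ l → 2 ≤ b i) (n r : ℕ) (hr : 0 < r) (hcop : Nat.Coprime r n)
    (hhj : (n : ℚ) / r = HJFrac.hjVal ((List.range l).map fun i => b (i + 1))) :
    (nd (tail l b 0)).1 = n ∧ (nd (tail l b 0)).2 = r := by
  have ht : tail l b 0 = (List.range l).map fun i => b (i + 1) := by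
    rw [tail, Nat.sub_zero, List.range_eq_range']
  have hmem : ∀ x ∈ tail l b 0, 2 ≤ x := by
    intro x hx
    rw [ht, List.mem_map] at hx
    obtain ⟨i, hi, rfl⟩ := hx
    exact hb (i + 1) (by omega) (List.mem_range.1 hi)
  obtain ⟨h0, h1, hc, hv⟩ := nd_spec _ hmem
  have hne : tail l b 0 ≠ [] := fun e => by
    have := congrArg List.length e
    simp [tail] at this
    omega
  obtain ⟨hD, e⟩ := hv hne
  rw [← ht, e] at hhj
  set N := (nd (tail l b 0)).1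
  set D := (nd (tail l b 0)).2
  rw [div_eq_div_iff (Nat.cast_ne_zero.2 hr.ne') (Int.cast_ne_zero.2 hD.ne')] at hhj
  have e1 : (n : ℤ) * D = N * r := by exact_mod_cast hhj
  have hc' : IsCoprime (r : ℤ) (n : ℤ) := hcop.cast
  have d1 : D ∣ (r : ℤ) := hc.symm.dvd_of_dvd_mul_left (Dvd.intro_left _ e1)
  have d2 : (r : ℤ) ∣ D := hc'.dvd_of_dvd_mul_left (Dvd.intro_left _ e1.symm)
  have : D = r := Int.dvd_antisymm hD.le (by positivity) d1 d2
  refine ⟨?_, this⟩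
  rw [this] at e1
  exact (mul_right_cancel₀ (Nat.cast_ne_zero.2 hr.ne') e1).symm

include hsys in
theorem gcd_dvd (hl : 1 ≤ l) (hb : ∀ i, 1 ≤ i → i ≤ l → 2 ≤ b i) (n r : ℕ) (hr : 0 < r) (hcop : Nat.Coprime r n)
    (hhj : (n : ℚ) / r = HJFrac.hjVal ((List.range l).map fun i => b (i + 1))) (m₁ m₂ : ℕ) (h₁ : Nat.Coprime m₁ n)
    (hμ0 : μ 0 = m₂) (hμl : μ (l + 1) = m₁) (hμpos : ∀ i, i ≤ l + 1 → 0 < μ i) :
    ∀ i, i ≤ l + 1 → ((Nat.gcd m₁ m₂ : ℕ) : ℤ) ∣ μ i := by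
  obtain ⟨hn, hr'⟩ := num_den l b hl hb n r hr hcop hhj
  obtain ⟨h, -⟩ := chain l b μ hsys (fun i hi => (hμpos i hi).ne') l 0 (by omega)
  rw [hn, hr', hμl, hμ0] at h
  set g : ℤ := ((Nat.gcd m₁ m₂ : ℕ) : ℤ)
  have g1 : g ∣ (m₁ : ℤ) := Int.natCast_dvd_natCast.2 (Nat.gcd_dvd_left _ _)
  have g2 : g ∣ (m₂ : ℤ) := Int.natCast_dvd_natCast.2 (Nat.gcd_dvd_right _ _)
  have hcg : IsCoprime g (n : ℤ) := (h₁.coprime_dvd_left (Nat.gcd_dvd_left _ _)).cast
  have g3 : g ∣ μ 1 := hcg.dvd_of_dvd_mul_left (by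
    rw [show (n : ℤ) * μ (0 + 1) = m₁ + r * m₂ by linear_combination h]
    exact dvd_add g1 (g2.mul_left _))
  have hall : ∀ i, i ≤ l → g ∣ μ i ∧ g ∣ μ (i + 1) := by
    intro i
    induction i with
    | zero => exact fun _ => ⟨hμ0 ▸ g2, g3⟩
    | succ i ih =>
      intro hi
      obtain ⟨a, c⟩ := ih (by omega)
      refine ⟨c, ?_⟩
      have hs := hsys (i + 1) (by omega) hi
      rw [Nat.add_sub_cancel] at hs
      rw [show μ (i + 1 + 1) = b (i + 1) * μ (i + 1) - μ i by linear_combination -hs]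
      exact dvd_sub (c.mul_left _) a
  intro i hi
  rcases eq_or_lt_of_le hi with rfl | hi
  · exact (hall l le_rfl).2
  · exact (hall i (by omega)).1

include hsys in
theorem sum_eq (hl : 1 ≤ l) (hb : ∀ i, 1 ≤ i → i ≤ l → 2 ≤ b i) (n r : ℕ) (hr : 0 < r) (hcop : Nat.Coprime r n)
    (hhj : (n : ℚ) / r = HJFrac.hjVal ((List.range l).map fun i => b (i + 1))) (m₁ m₂ : ℕ)
    (hμ0 : μ 0 = m₂) (hμl : μ (l + 1) = m₁) (hμpos : ∀ i, i ≤ l + 1 → 0 < μ i) :
    (n : ℚ) / ((m₁ : ℚ) * m₂) = ∑ i ∈ Finset.range (l + 1), 1 / ((μ i : ℚ) * (μ (i + 1) : ℚ)) := by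
  obtain ⟨hn, -⟩ := num_den l b hl hb n r hr hcop hhj
  obtain ⟨-, h⟩ := chain l b μ hsys (fun i hi => (hμpos i hi).ne') l 0 (by omega)
  rw [Finset.range_eq_Ico, h, hn, hμl, hμ0, Int.cast_natCast, Int.cast_natCast, Int.cast_natCast, mul_comm (m₂ : ℚ)]

end Groth.Agent.HJChain
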